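import Mathlib.RingTheory.Length
import Mathlib.Data.ENat.BigOperators
import Mathlib.Algebra.Module.PID
import Mathlib.RingTheory.DiscreteValuationRing.Basic
import Mathlib.Algebra.Module.Torsion.Basic

/-!
# Injectivity and splitting in the Fontaine–Laffaille gluing complex
-/

universe u v

open DirectSum

namespace GrothLib.FLSplit

section Length

variable {W : Type u} [CommRing W] (π : W) (σ : W →+* W) [RingHomSurjective σ] (r : ℕ)
  (N : ℕ → Type v) [∀ i, AddCommGroup (N i)] [∀ i, Module W (N i)]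
  (α : ∀ i, N (i + 1) →ₗ[W] N i) (φ : ∀ i, N i →ₛₗ[σ] N 0)

/-- A component of the gluing map. -/
def comp : ∀ n, (∀ i, N (i + 1)) →ₗ[W] N n
  | 0 => α 0 ∘ₗ LinearMap.proj 0
  | m + 1 => α (m + 1) ∘ₗ LinearMap.proj (m + 1) - π • LinearMap.proj (φ := fun i => N (i + 1)) m

theorem comp_zero (z : ∀ i, N (i + 1)) : comp π N α 0 z = α 0 (z 0) := rfl

theorem comp_succ (m : ℕ) (z : ∀ i, N (i + 1)) : comp π N α (m + 1) z = α (m + 1) (z (m + 1)) - π • z m := rfl

/-- Extension by zero. -/
def ext0 : (∀ i : Fin r, N (i + 1)) →ₗ[W] ∀ i, N (i + 1) :=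
  LinearMap.pi fun i => if h : i < r then LinearMap.proj (φ := fun j : Fin r => N (j + 1)) ⟨i, h⟩ else 0

theorem ext0_of_lt (z : ∀ i : Fin r, N (i + 1)) (i : ℕ) (h : i < r) : ext0 (W := W) r N z i = z ⟨i, h⟩ := by
  simp [ext0, h]

theorem ext0_of_ge (z : ∀ i : Fin r, N (i + 1)) (i : ℕ) (h : r ≤ i) : ext0 (W := W) r N z i = 0 := by
  simp [ext0, not_lt.mpr h]

/-- If the gluing map has cokernel semilinearly isomorphic to `N 0`, it is injective. -/
theorem injective (hπ : σ π = π) (hσ : Function.Bijective σ) (hfl : ∀ i, IsFiniteLength W (N i))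
    (hφ : ∀ i, i < r → ∀ y : N (i + 1), φ i (α i y) = π • φ (i + 1) y)
    (hsurj : ∀ m : N 0, ∃ y : (i : ℕ) → N i,
      (Finset.range (r + 1)).sum (fun i => φ i (y i)) = m)
    (hker : ∀ y : (i : ℕ) → N i, (∀ i, r < i → y i = 0) →
      (Finset.range (r + 1)).sum (fun i => φ i (y i)) = 0 →
        ∃ z : (i : ℕ) → N (i + 1), (∀ i, r ≤ i → z i = 0) ∧
          y 0 = α 0 (z 0) ∧ ∀ i, y (i + 1) = α (i + 1) (z (i + 1)) - π • z i)
    (z : ∀ i, N (i + 1)) (hz : ∀ i, r ≤ i → z i = 0) (h : ∀ n, n ≤ r → comp π N α n z = 0) : z = 0 := by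
  classical
  let I : (∀ i : Fin r, N (i + 1)) →ₗ[W] ∀ i : Fin (r + 1), N i :=
    LinearMap.pi fun j => comp π N α j ∘ₗ ext0 r N
  let Φ : (∀ i : Fin (r + 1), N i) →ₛₗ[σ] N 0 :=
    ∑ i : Fin (r + 1), (φ i).comp (LinearMap.proj (φ := fun j : Fin (r + 1) => N j) i)
  have hΦ : ∀ y, Φ y = ∑ i : Fin (r + 1), φ i (y i) := fun y => by simp [Φ]
  have hΦs : Function.Surjective Φ := by
    intro m
    obtain ⟨y, hy⟩ := hsurj m
    exact ⟨fun i => y i, (hΦ _).trans ((Fin.sum_univ_eq_sum_range (fun i => φ i (y i)) (r + 1)).trans hy)⟩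
  have hker' : LinearMap.ker Φ = LinearMap.range I := by
    refine le_antisymm (fun y hy => ?_) ?_
    · let y' : ∀ i, N i := fun i => if h : i ≤ r then y ⟨i, Nat.lt_succ_of_le h⟩ else 0
      have hy' : ∀ i : Fin (r + 1), y' i = y i := fun i => by simp [y', Nat.lt_succ_iff.mp i.2]
      obtain ⟨w, hw, hw0, hws⟩ := hker y' (fun i hi => dif_neg (not_le.mpr hi)) (by
        rw [← Fin.sum_univ_eq_sum_range (fun i => φ i (y' i)) (r + 1)]
        simp only [hy']
        exact (hΦ y).symm.trans (LinearMap.mem_ker.mp hy))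
      refine ⟨fun i => w i, funext fun j => ?_⟩
      have hext : ext0 (W := W) r N (fun i : Fin r => w i) = w := funext fun i => by
        by_cases h : i < r
        · rw [ext0_of_lt r N _ i h]
        · rw [ext0_of_ge r N _ i (not_lt.mp h), hw i (not_lt.mp h)]
      show comp π N α j (ext0 r N fun i : Fin r => w i) = y j
      rw [hext, ← hy' j]
      obtain ⟨j, hj⟩ := j
      cases j with
      | zero => exact hw0.symm
      | succ m => exact (hws m).symm
    · rintro _ ⟨w, rfl⟩
      rw [LinearMap.mem_ker, hΦ]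
      set e := ext0 (W := W) r N w with he
      have hge : ∀ i, r ≤ i → e i = 0 := fun i hi => ext0_of_ge r N w i hi
      show ∑ i : Fin (r + 1), φ i (comp π N α i e) = 0
      rw [Fin.sum_univ_eq_sum_range (fun i => φ i (comp π N α i e)) (r + 1), Finset.sum_range_succ']
      have hα : ∀ i, φ i (α i (e i)) = π • φ (i + 1) (e i) := fun i => by
        by_cases hi : i < r
        · exact hφ i hi _
        · rw [hge i (not_lt.mp hi)]; simp
      simp only [comp_zero, comp_succ, map_sub, LinearMap.map_smulₛₗ, hπ, hα]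
      rw [Finset.sum_range_sub (fun i => π • φ (i + 1) (e i)), hge r le_rfl]
      simp
  let Ψ : ((∀ i : Fin (r + 1), N i) ⧸ LinearMap.range I) →ₛₗ[σ] N 0 :=
    (LinearMap.range I).liftQ Φ hker'.ge
  have hΨ : Function.Bijective Ψ := by
    refine ⟨?_, fun m => ?_⟩
    · rw [← LinearMap.ker_eq_bot]
      exact Submodule.ker_liftQ_eq_bot _ _ _ hker'.le
    · obtain ⟨y, rfl⟩ := hΦs m
      exact ⟨Submodule.Quotient.mk y, rfl⟩
  have hlenΨ : Module.length W ((∀ i : Fin (r + 1), N i) ⧸ LinearMap.range I) = Module.length W (N 0) := by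
    apply WithBot.coe_injective
    rw [Module.coe_length, Module.coe_length,
      Order.krullDim_eq_of_orderIso (Submodule.orderIsoMapComapOfBijective Ψ hΨ)]
  have hX : ∀ i : Fin r, IsFiniteLength W (N (i + 1)) := fun i => hfl _
  have e1 := Module.length_eq_add_of_exact (LinearMap.range I).subtype (LinearMap.range I).mkQ
    (Submodule.injective_subtype _) (Submodule.mkQ_surjective _) (LinearMap.exact_subtype_mkQ _)
  have e2 := Module.length_eq_add_of_exact (LinearMap.ker I).subtype I.rangeRestrict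
    (Submodule.injective_subtype _) I.surjective_rangeRestrict
    (LinearMap.exact_iff.mpr (by rw [LinearMap.ker_rangeRestrict, Submodule.range_subtype]))
  rw [hlenΨ, Module.length_pi_of_fintype, Fin.sum_univ_succ] at e1
  rw [Module.length_pi_of_fintype] at e2
  simp only [Fin.val_succ, Fin.val_zero] at e1
  rw [e2, add_comm] at e1
  have hne : Module.length W (LinearMap.range I) ≠ ⊤ := by
    intro ht
    rw [ht, add_top] at e2
    obtain ⟨i, -, hi⟩ := ENat.sum_eq_top.mp e2
    exact Module.length_ne_top_iff.mpr (hX i) hi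
  have hne0 : Module.length W (N 0) ≠ ⊤ := Module.length_ne_top_iff.mpr (hfl 0)
  have h0 : Module.length W (LinearMap.ker I) = 0 := by
    generalize Module.length W (LinearMap.ker I) = a at e1
    generalize Module.length W (LinearMap.range I) = b at e1 hne
    change a + b + Module.length W (N 0) = b + Module.length W (N 0) at e1
    generalize Module.length W (N 0) = c at e1 hne0
    induction a with
    | top => exact absurd e1.symm (by simp [hne, hne0])
    | coe a =>
      lift b to ℕ using hne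
      lift c to ℕ using hne0
      norm_cast at e1 ⊢
      omega
  haveI := Module.length_eq_zero_iff.mp h0
  have hI : I (fun i => z i) = 0 := by
    funext j
    show comp π N α j (ext0 r N fun i : Fin r => z i) = 0
    rw [show ext0 (W := W) r N (fun i : Fin r => z i) = z from funext fun i => by
      by_cases h : i < r
      · rw [ext0_of_lt r N _ i h]
      · rw [ext0_of_ge r N _ i (not_lt.mp h), hz i (not_lt.mp h)]]
    exact h j (Nat.lt_succ_iff.mp j.2)
  have hzero : (fun i : Fin r => z i) = 0 :=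
    congrArg Subtype.val (Subsingleton.elim (⟨_, LinearMap.mem_ker.mpr hI⟩ : LinearMap.ker I) 0)
  funext i
  by_cases h : i < r
  · exact congrFun hzero ⟨i, h⟩
  · exact hz i (not_lt.mp h)

end Length

section Split

variable {W : Type u} [CommRing W] [IsDomain W] [IsDiscreteValuationRing W] {ϖ : W}
  {X Y : Type v} [AddCommGroup X] [Module W X] [AddCommGroup Y] [Module W Y]

/-- A pure submodule with finitely generated torsion quotient is a direct summand. -/
theorem exists_isCompl_of_pure (hϖ : Irreducible ϖ) (f : X →ₗ[W] Y) [Module.Finite W Y]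
    (htor : Module.IsTorsion W Y)
    (hpure : ∀ (n : ℕ) (y : Y) (x : X), ϖ ^ n • y = f x → ∃ x', ϖ ^ n • f x' = f x) :
    ∃ Q : Submodule W Y, IsCompl (LinearMap.range f) Q := by
  classical
  have htorQ : Module.IsTorsion W (Y ⧸ LinearMap.range f) := by
    intro q
    obtain ⟨y, rfl⟩ := Submodule.Quotient.mk_surjective _ q
    obtain ⟨a, ha⟩ := @htor y
    exact ⟨a, by rw [← Submodule.Quotient.mk_smul, ha, Submodule.Quotient.mk_zero]⟩
  obtain ⟨J, _, q, hq, e, ⟨E⟩⟩ := Module.equiv_directSum_of_isTorsion htorQ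
  have key : ∀ j, ∃ y : Y, (q j ^ e j) • y = 0 ∧
      (LinearMap.range f).mkQ y = E.symm (DirectSum.lof W J (fun j => W ⧸ W ∙ q j ^ e j) j (Submodule.Quotient.mk 1)) := by
    intro j
    obtain ⟨y, hy⟩ := Submodule.mkQ_surjective (LinearMap.range f)
      (E.symm (DirectSum.lof W J (fun j => W ⧸ W ∙ q j ^ e j) j (Submodule.Quotient.mk 1)))
    have hmem : (q j ^ e j) • y ∈ LinearMap.range f := by
      rw [← Submodule.Quotient.mk_eq_zero]
      show (LinearMap.range f).mkQ ((q j ^ e j) • y) = 0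
      rw [map_smul, hy, ← map_smul, ← map_smul, ← Submodule.Quotient.mk_smul,
        (Submodule.Quotient.mk_eq_zero _).mpr (Submodule.mem_span_singleton.mpr ⟨1, by simp⟩), map_zero, map_zero]
    obtain ⟨x, hx⟩ := hmem
    obtain ⟨n, hn⟩ := IsDiscreteValuationRing.associated_pow_irreducible (pow_ne_zero (e j) (hq j).ne_zero) hϖ
    obtain ⟨u, hu⟩ := hn.symm
    obtain ⟨x', hx'⟩ := hpure n ((u : W) • y) x (by rw [smul_smul, hu, hx])
    refine ⟨y - ((↑u⁻¹ : W)) • f x', ?_, ?_⟩
    · rw [smul_sub, ← hu, smul_smul (ϖ ^ n * ↑u), mul_assoc, Units.mul_inv, mul_one, hx', hu, hx, sub_self]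
    · rw [map_sub, hy, map_smul, show (LinearMap.range f).mkQ (f x') = 0 from
        (Submodule.Quotient.mk_eq_zero _).mpr ⟨x', rfl⟩, smul_zero, sub_zero]
  choose y hy hy' using key
  let s : (⨁ j, W ⧸ W ∙ q j ^ e j) →ₗ[W] Y := DirectSum.toModule W J Y fun j =>
    Submodule.liftQ _ (LinearMap.toSpanSingleton W Y (y j)) (by
      rw [Submodule.span_singleton_le_iff_mem, LinearMap.mem_ker, LinearMap.toSpanSingleton_apply]
      exact hy j)
  let sec : (Y ⧸ LinearMap.range f) →ₗ[W] Y := s ∘ₗ E.toLinearMap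
  have hsec : (LinearMap.range f).mkQ ∘ₗ sec = LinearMap.id := by
    suffices h : (LinearMap.range f).mkQ ∘ₗ s = E.symm.toLinearMap by
      rw [show (LinearMap.range f).mkQ ∘ₗ sec = ((LinearMap.range f).mkQ ∘ₗ s) ∘ₗ E.toLinearMap from rfl, h]
      exact LinearMap.ext fun w => E.symm_apply_apply w
    refine DirectSum.linearMap_ext W fun j => Submodule.linearMap_qext _ (LinearMap.ext_ring ?_)
    simp only [LinearMap.comp_apply, s, DirectSum.toModule_lof, LinearEquiv.coe_coe, Submodule.mkQ_apply,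
      Submodule.liftQ_apply, LinearMap.toSpanSingleton_apply, one_smul]
    exact hy' j
  refine ⟨LinearMap.range sec, ?_⟩
  have hc := LinearMap.isCompl_of_proj (f := ((sec ∘ₗ (LinearMap.range f).mkQ)).rangeRestrict) (p := LinearMap.range (sec ∘ₗ (LinearMap.range f).mkQ)) (fun w => ?_)
  · rw [LinearMap.ker_rangeRestrict, LinearMap.ker_comp,
      LinearMap.ker_eq_bot.mpr (Function.LeftInverse.injective (LinearMap.congr_fun hsec)),
      Submodule.comap_bot, Submodule.ker_mkQ, LinearMap.range_comp, Submodule.range_mkQ, Submodule.map_top] at hc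
    exact hc.symm
  · obtain ⟨_, v, rfl⟩ := w
    refine Subtype.ext ?_
    show sec ((LinearMap.range f).mkQ (sec ((LinearMap.range f).mkQ v))) = sec ((LinearMap.range f).mkQ v)
    rw [show (LinearMap.range f).mkQ (sec ((LinearMap.range f).mkQ v)) = (LinearMap.range f).mkQ v from
      LinearMap.congr_fun hsec _]

end Split

end GrothLib.FLSplit
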